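import Groth.Prelude.Def_W4stkflatp2Cpct
import Mathlib

/-! The category of compactifications: calculus of fractions for `Cpct.isoOpen`. -/

set_option autoImplicit false
set_option maxHeartbeats 800000
universe u

open CategoryTheory CategoryTheory.Limits AlgebraicGeometry Cpct

namespace Groth.Agent.Cpct94

variable {S : Scheme.{u}}

theorem restr_ι {A B : Pair S} (f : A ⟶ B) :
    restr f ≫ B.U.ι = A.U.ι ≫ (Pair.Hom.bar f).left :=
  Scheme.Hom.resLE_comp_ι _ _

theorem restr_eq_iff {A B : Pair S} (f g : A ⟶ B) :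
    restr f = restr g ↔ A.U.ι ≫ (Pair.Hom.bar f).left = A.U.ι ≫ (Pair.Hom.bar g).left := by
  rw [← restr_ι, ← restr_ι, cancel_mono]

theorem restr_id (A : Pair S) : restr (𝟙 A) = 𝟙 _ := by
  rw [← cancel_mono A.U.ι, restr_ι, Category.id_comp, Pair.id_bar, Over.id_left, Category.comp_id]

theorem restr_comp {A B C : Pair S} (f : A ⟶ B) (g : B ⟶ C) : restr (f ≫ g) = restr f ≫ restr g := by
  rw [← cancel_mono C.U.ι, restr_ι, Category.assoc, restr_ι, ← Category.assoc, restr_ι, Pair.comp_bar,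
    Over.comp_left, Category.assoc]

instance isMultiplicative : (isoOpen S).IsMultiplicative where
  id_mem A := by
    show IsIso (restr (𝟙 A))
    rw [restr_id]; infer_instance
  comp_mem f g hf hg := by
    show IsIso (restr (f ≫ g))
    haveI : IsIso (restr f) := hf
    haveI : IsIso (restr g) := hg
    rw [restr_comp]; infer_instance

theorem isOpenImmersion_ι_bar (A : Pair S) : IsProper A.bar.hom := A.isProper

theorem mem_range_ι {X : Scheme.{u}} (U : X.Opens) {x : X} : x ∈ Set.range U.ι ↔ x ∈ U := by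
  rw [Scheme.Opens.range_ι]; rfl

theorem compactSpace_U (A : Pair S) : CompactSpace (A.U : Scheme.{u}) :=
  isCompact_iff_compactSpace.1 A.isCompact

/-- A pair built from an open immersion into a proper scheme. -/
noncomputable def mkPair {V P : Scheme.{u}} (p : P ⟶ S) [IsProper p] (j : V ⟶ P) [IsOpenImmersion j]
    [CompactSpace V] : Pair S where
  bar := Over.mk p
  U := j.opensRange
  isProper := ‹_›
  isCompact := isCompact_range j.continuous

/-- The open part of `mkPair`. -/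
noncomputable def mkPairIso {V P : Scheme.{u}} (p : P ⟶ S) [IsProper p] (j : V ⟶ P) [IsOpenImmersion j]
    [CompactSpace V] : V ≅ ((mkPair p j).U : Scheme.{u}) :=
  j.isoOpensRange

@[reassoc]
theorem mkPairIso_ι {V P : Scheme.{u}} (p : P ⟶ S) [IsProper p] (j : V ⟶ P) [IsOpenImmersion j]
    [CompactSpace V] : (mkPairIso p j).hom ≫ (mkPair p j).U.ι = j :=
  j.isoOpensRange_hom_ι

/-- A morphism of pairs out of `mkPair`. -/
noncomputable def homOfMkPair {V P : Scheme.{u}} (p : P ⟶ S) [IsProper p] (j : V ⟶ P) [IsOpenImmersion j]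
    [CompactSpace V] (B : Pair S) (φ : P ⟶ B.bar.left) (hφ : φ ≫ B.bar.hom = p)
    (v : V ⟶ (B.U : Scheme.{u})) (hv : j ≫ φ = v ≫ B.U.ι) : mkPair p j ⟶ B where
  bar := Over.homMk φ hφ
  le := by
    rintro x ⟨a, rfl⟩
    show φ (j a) ∈ B.U
    have := congrArg (fun m : V ⟶ B.bar.left => m a) hv
    simp only [Scheme.Hom.comp_apply] at this
    rw [this]
    exact (v a).2

set_option backward.isDefEq.respectTransparency false in
theorem restr_homOfMkPair {V P : Scheme.{u}} (p : P ⟶ S) [IsProper p] (j : V ⟶ P) [IsOpenImmersion j]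
    [CompactSpace V] (B : Pair S) (φ : P ⟶ B.bar.left) (hφ : φ ≫ B.bar.hom = p)
    (v : V ⟶ (B.U : Scheme.{u})) (hv : j ≫ φ = v ≫ B.U.ι) :
    (mkPairIso p j).hom ≫ restr (homOfMkPair p j B φ hφ v hv) = v := by
  rw [← cancel_mono B.U.ι, Category.assoc, restr_ι]
  show (mkPairIso p j).hom ≫ (mkPair p j).U.ι ≫ φ = _
  rw [← Category.assoc, mkPairIso_ι, hv]

variable [QuasiSeparatedSpace S]

/-- A span of pairs realising an `S`-morphism of open parts. -/
theorem exists_span (A B : Pair S) (u : (A.U : Scheme.{u}) ⟶ (B.U : Scheme.{u}))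
    (hu : u ≫ B.U.ι ≫ B.bar.hom = A.U.ι ≫ A.bar.hom) :
    ∃ (C : Pair S) (s : C ⟶ A) (g : C ⟶ B), isoOpen S s ∧ restr s ≫ u = restr g := by
  haveI := A.isProper
  haveI := B.isProper
  haveI := compactSpace_U A
  let j := pullback.lift (f := A.bar.hom) (g := B.bar.hom) A.U.ι (u ≫ B.U.ι) (by rw [Category.assoc, hu])
  let P := pullback.fst A.bar.hom B.bar.hom ≫ A.bar.hom
  haveI : IsImmersion j := by
    haveI : IsImmersion (j ≫ pullback.fst A.bar.hom B.bar.hom) := by rw [pullback.lift_fst]; infer_instance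
    exact IsImmersion.of_comp j (pullback.fst A.bar.hom B.bar.hom)
  haveI : QuasiSeparatedSpace ↥(pullback A.bar.hom B.bar.hom) := quasiSeparatedSpace_of_quasiSeparated P
  haveI : QuasiCompact j := inferInstance
  let pI := j.imageι ≫ P
  haveI : IsProper pI := inferInstance
  have e₁ : j.toImage ≫ j.imageι ≫ pullback.fst A.bar.hom B.bar.hom = A.U.ι :=
    (Scheme.Hom.toImage_imageι_assoc j _).trans (pullback.lift_fst _ _ _)
  have e₂ : j.toImage ≫ j.imageι ≫ pullback.snd A.bar.hom B.bar.hom = u ≫ B.U.ι :=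
    (Scheme.Hom.toImage_imageι_assoc j _).trans (pullback.lift_snd _ _ _)
  refine ⟨mkPair pI j.toImage,
    homOfMkPair pI j.toImage A (j.imageι ≫ pullback.fst _ _) (Category.assoc _ _ _) (𝟙 _)
      (by rw [Category.id_comp]; exact e₁),
    homOfMkPair pI j.toImage B (j.imageι ≫ pullback.snd _ _)
      (by rw [Category.assoc, ← pullback.condition]) u e₂, ?_, ?_⟩
  · have h := restr_homOfMkPair pI j.toImage A (j.imageι ≫ pullback.fst _ _) (Category.assoc _ _ _) (𝟙 _)
      (by rw [Category.id_comp]; exact e₁)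
    show IsIso (restr _)
    rw [← Iso.inv_hom_id_assoc (mkPairIso pI j.toImage) (restr _), h]
    infer_instance
  · rw [← cancel_epi (mkPairIso pI j.toImage).hom, ← Category.assoc, restr_homOfMkPair, restr_homOfMkPair,
      Category.id_comp]

/-- Two morphisms with the same open part are equalised by a morphism in `isoOpen`. -/
theorem exists_equalizer {A B : Pair S} (f g : A ⟶ B) (h : restr f = restr g) :
    ∃ (C : Pair S) (t : C ⟶ A), isoOpen S t ∧ t ≫ f = t ≫ g := by
  haveI := A.isProper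
  haveI := B.isProper
  haveI := compactSpace_U A
  rw [restr_eq_iff] at h
  let a := (Pair.Hom.bar f).left
  let b := (Pair.Hom.bar g).left
  let r := pullback.lift (f := B.bar.hom) (g := B.bar.hom) a b (by simp [a, b])
  let δ := pullback.diagonal B.bar.hom
  let e := pullback.fst r δ
  have f1 : r ≫ pullback.fst B.bar.hom B.bar.hom = a := pullback.lift_fst _ _ _
  have f2 : r ≫ pullback.snd B.bar.hom B.bar.hom = b := pullback.lift_snd _ _ _
  have d1 : δ ≫ pullback.fst B.bar.hom B.bar.hom = 𝟙 _ := pullback.diagonal_fst _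
  have d2 : δ ≫ pullback.snd B.bar.hom B.bar.hom = 𝟙 _ := pullback.diagonal_snd _
  have hj : A.U.ι ≫ r = (A.U.ι ≫ a) ≫ δ := by
    apply pullback.hom_ext
    · rw [Category.assoc, f1, Category.assoc, d1, Category.comp_id]
    · rw [Category.assoc, f2, Category.assoc, d2, Category.comp_id]; exact h.symm
  let j := pullback.lift A.U.ι (A.U.ι ≫ a) hj
  haveI : IsImmersion j := by
    haveI : IsImmersion (j ≫ e) := by rw [pullback.lift_fst]; infer_instance
    exact IsImmersion.of_comp j e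
  haveI : QuasiSeparatedSpace ↥(pullback r δ) := quasiSeparatedSpace_of_quasiSeparated (e ≫ A.bar.hom)
  haveI : QuasiCompact j := inferInstance
  let pI := j.imageι ≫ e ≫ A.bar.hom
  haveI : IsProper pI := inferInstance
  have e₁ : j.toImage ≫ j.imageι ≫ e = A.U.ι :=
    (Scheme.Hom.toImage_imageι_assoc j _).trans (pullback.lift_fst _ _ _)
  let t := homOfMkPair pI j.toImage A (j.imageι ≫ e) (Category.assoc _ _ _) (𝟙 _)
      (by rw [Category.id_comp]; exact e₁)
  refine ⟨mkPair pI j.toImage, t, ?_, ?_⟩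
  · have h := restr_homOfMkPair pI j.toImage A (j.imageι ≫ e) (Category.assoc _ _ _) (𝟙 _)
      (by rw [Category.id_comp]; exact e₁)
    show IsIso (restr t)
    rw [← Iso.inv_hom_id_assoc (mkPairIso pI j.toImage) (restr t), h]
    infer_instance
  · refine Pair.Hom.ext ?_
    refine Over.OverMorphism.ext ?_
    show (j.imageι ≫ e) ≫ a = (j.imageι ≫ e) ≫ b
    rw [Category.assoc, Category.assoc]
    congr 1
    rw [← f1, ← f2]
    have hc : e ≫ r = pullback.snd r δ ≫ δ := pullback.condition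
    rw [← Category.assoc, hc, Category.assoc, d1, ← Category.assoc, hc, Category.assoc, d2]

theorem hasRightCalculusOfFractions : (isoOpen S).HasRightCalculusOfFractions where
  exists_rightFraction X Y φ := by
    haveI : IsIso (restr φ.s) := φ.hs
    have hu : (restr φ.f ≫ inv (restr φ.s)) ≫ Y.U.ι ≫ Y.bar.hom = X.U.ι ≫ X.bar.hom := by
      have : inv (restr φ.s) ≫ Y.U.ι ≫ Y.bar.hom = φ.Y'.U.ι ≫ φ.Y'.bar.hom := by
        rw [IsIso.inv_comp_eq, ← Category.assoc, restr_ι, Category.assoc, Over.w]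
      rw [Category.assoc, this, ← Category.assoc, restr_ι, Category.assoc, Over.w]
    obtain ⟨C, s, g, hs, hsg⟩ := exists_span X Y (restr φ.f ≫ inv (restr φ.s)) hu
    obtain ⟨C', t, ht, hte⟩ := exists_equalizer (s ≫ φ.f) (g ≫ φ.s) (by
      rw [restr_comp, restr_comp, ← hsg, Category.assoc, Category.assoc, IsIso.inv_hom_id, Category.comp_id])
    exact ⟨⟨t ≫ s, (isoOpen S).comp_mem t s ht hs, t ≫ g⟩, by simpa only [Category.assoc] using hte⟩
  ext X Y Y' f₁ f₂ s hs h := by
    haveI : IsIso (restr s) := hs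
    obtain ⟨C, t, ht, hte⟩ := exists_equalizer f₁ f₂ (by
      rw [← cancel_mono (restr s), ← restr_comp, ← restr_comp, h])
    exact ⟨C, t, ht, hte⟩

theorem openFunctor_map_eq_iff {A B : Pair S} (f g : A ⟶ B) :
    (openFunctor S).map f = (openFunctor S).map g ↔ restr f = restr g :=
  ⟨fun h => congrArg (fun m => m.hom.left) h,
    fun h => ObjectProperty.hom_ext _ (Over.OverMorphism.ext h)⟩

theorem inverts : (isoOpen S).IsInvertedBy (openFunctor S) := fun A B f hf => by
  haveI : IsIso ((openFunctor S).map f).hom.left := hf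
  haveI : IsIso ((Over.forget S).map ((openFunctor S).map f).hom) := hf
  haveI : IsIso ((ObjectProperty.ι (IsCompactifyable S)).map ((openFunctor S).map f)) :=
    isIso_of_reflects_iso ((openFunctor S).map f).hom (Over.forget S)
  exact isIso_of_reflects_iso _ (ObjectProperty.ι (IsCompactifyable S))

theorem isLocalization : (openFunctor S).IsLocalization (isoOpen S) := by
  haveI := hasRightCalculusOfFractions (S := S)
  let W := isoOpen S
  let L := openFunctor S
  let G : W.Localization ⥤ Cfy S := Localization.Construction.lift L (inverts (S := S))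
  have fac : W.Q ⋙ G = L := Localization.Construction.fac _ _
  let e : W.Q ⋙ G ≅ L := eqToIso fac
  haveI : G.EssSurj := ⟨fun X => by
    obtain ⟨A, ⟨i⟩⟩ := X.property
    exact ⟨W.Q.obj A, ⟨e.app A ≪≫ ObjectProperty.isoMk _ i⟩⟩⟩
  have hfull : ∀ (A B : Pair S) (m : G.obj (W.Q.obj A) ⟶ G.obj (W.Q.obj B)),
      ∃ n : W.Q.obj A ⟶ W.Q.obj B, G.map n = m := by
    intro A B m
    let m' : L.obj A ⟶ L.obj B := e.inv.app A ≫ m ≫ e.hom.app B
    have hw : m'.hom.left ≫ B.U.ι ≫ B.bar.hom = A.U.ι ≫ A.bar.hom := Over.w m'.hom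
    obtain ⟨C, s, g, hs, hsg⟩ := exists_span A B m'.hom.left hw
    haveI : IsIso (W.Q.map s) := Localization.inverts W.Q W s hs
    refine ⟨inv (W.Q.map s) ≫ W.Q.map g, ?_⟩
    rw [G.map_comp, Functor.map_inv, IsIso.inv_comp_eq]
    have h1 : L.map s ≫ m' = L.map g := ObjectProperty.hom_ext _ (Over.OverMorphism.ext hsg)
    have e1 : ∀ {P Q : Pair S} (f : P ⟶ Q), G.map (W.Q.map f) ≫ e.hom.app Q = e.hom.app P ≫ L.map f :=
      fun f => e.hom.naturality f
    have e2 : G.map (W.Q.map s) ≫ m ≫ e.hom.app B = G.map (W.Q.map g) ≫ e.hom.app B := by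
      rw [e1 g, ← h1, ← Category.assoc (e.hom.app C), ← e1 s]
      simp only [m', Category.assoc, Iso.hom_inv_id_app_assoc]
    rw [← cancel_mono (e.hom.app B), Category.assoc]
    exact e2.symm
  haveI : G.Full := ⟨fun {X Y} m => by
    obtain ⟨A, rfl⟩ := (Localization.Construction.objEquiv W).surjective X
    obtain ⟨B, rfl⟩ := (Localization.Construction.objEquiv W).surjective Y
    exact hfull A B m⟩
  have hfaith : ∀ (A B : Pair S) (m₁ m₂ : W.Q.obj A ⟶ W.Q.obj B), G.map m₁ = G.map m₂ → m₁ = m₂ := by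
    intro A B m₁ m₂ h
    obtain ⟨φ₁, h₁⟩ := Localization.exists_rightFraction W.Q W m₁
    obtain ⟨φ₂, h₂⟩ := Localization.exists_rightFraction W.Q W m₂
    obtain ⟨ψ, hψ⟩ := MorphismProperty.HasRightCalculusOfFractions.exists_rightFraction
      (W := W) (⟨φ₁.s, φ₂.s, φ₂.hs⟩ : W.LeftFraction φ₁.X' φ₂.X')
    have hs : W (ψ.s ≫ φ₁.s) := W.comp_mem _ _ ψ.hs φ₁.hs
    haveI : IsIso (W.Q.map (ψ.s ≫ φ₁.s)) := Localization.inverts W.Q W _ hs
    have k₁ : W.Q.map (ψ.s ≫ φ₁.s) ≫ m₁ = W.Q.map (ψ.s ≫ φ₁.f) := by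
      rw [h₁, W.Q.map_comp, Category.assoc]
      exact (congrArg (W.Q.map ψ.s ≫ ·) (φ₁.map_s_comp_map W.Q _)).trans (W.Q.map_comp _ _).symm
    have k₂ : W.Q.map (ψ.s ≫ φ₁.s) ≫ m₂ = W.Q.map (ψ.f ≫ φ₂.f) := by
      rw [h₂, show ψ.s ≫ φ₁.s = ψ.f ≫ φ₂.s from hψ, W.Q.map_comp, Category.assoc]
      exact (congrArg (W.Q.map ψ.f ≫ ·) (φ₂.map_s_comp_map W.Q _)).trans (W.Q.map_comp _ _).symm
    have hG : G.map (W.Q.map (ψ.s ≫ φ₁.f)) = G.map (W.Q.map (ψ.f ≫ φ₂.f)) := by
      rw [← k₁, ← k₂, G.map_comp, G.map_comp, h]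
    have hL : L.map (ψ.s ≫ φ₁.f) = L.map (ψ.f ≫ φ₂.f) := by
      rw [← cancel_epi (e.hom.app ψ.X')]
      exact ((e.hom.naturality _).symm.trans (by rw [Functor.comp_map, hG]; rfl)).trans (e.hom.naturality _)
    obtain ⟨C, t, ht, hte⟩ := exists_equalizer _ _ ((openFunctor_map_eq_iff _ _).1 hL)
    haveI : IsIso (W.Q.map t) := Localization.inverts W.Q W t ht
    have : W.Q.map (ψ.s ≫ φ₁.f) = W.Q.map (ψ.f ≫ φ₂.f) := by
      rw [← cancel_epi (W.Q.map t), ← W.Q.map_comp, ← W.Q.map_comp, hte]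
    rw [← cancel_epi (W.Q.map (ψ.s ≫ φ₁.s)), k₁, k₂, this]
  haveI : G.Faithful := ⟨fun {X Y} {m₁ m₂} h => by
    obtain ⟨A, rfl⟩ := (Localization.Construction.objEquiv W).surjective X
    obtain ⟨B, rfl⟩ := (Localization.Construction.objEquiv W).surjective Y
    exact hfaith A B m₁ m₂ h⟩
  exact ⟨inverts, { }⟩

end Groth.Agent.Cpct94
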